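import Cfsg.Agent.EqLemmas
import Cfsg.Agent.Lib.Solvable.Supersolvable
import Cfsg.Agent.Lib.Solvable.Maximal

/-!
Groups in which the subgroup generated by a `p`-element and a conjugate by a `q`-element has order
not divisible by `q²` (`p ≠ q`): the linear step.

Main result: `Cfsg.Agent.ConjPairOrder.prime_card`: an elementary abelian minimal normal subgroup
with a faithful supersolvable complement has prime order.
-/

namespace Cfsg.Agent.ConjPairOrder

variable {G : Type*} [Group G]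

/-- The hypothesis of the statement. -/
def Pair (G : Type*) [Group G] : Prop :=
  ∀ (p q : ℕ), p.Prime → q.Prime → p ≠ q → ∀ (x g : G), (∃ a : ℕ, orderOf x = p ^ a) →
    (∃ b : ℕ, orderOf g = q ^ b) →
      ¬ q ^ 2 ∣ Nat.card ↥(Subgroup.zpowers x ⊔ Subgroup.zpowers (g * x * g⁻¹))

theorem exists_prime_pow_lift [Finite G] {H : Type*} [Group H] (f : G →* H) {p : ℕ} (hp : p.Prime)
    (x : G) (hx : ∃ a : ℕ, orderOf (f x) = p ^ a) :
    ∃ y : G, f y = f x ∧ ∃ a : ℕ, orderOf y = p ^ a := by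
  obtain ⟨a, ha⟩ := hx
  obtain ⟨e, m, hm, he⟩ := Nat.exists_eq_pow_mul_and_not_dvd (orderOf_pos x).ne' p hp.ne_one
  have hcop : m.Coprime (p ^ a) := ((hp.coprime_iff_not_dvd.2 hm).symm).pow_right a
  obtain ⟨j, hj⟩ := exists_pow_eq_self_of_coprime (x := f x) (n := m) (by rwa [ha])
  refine ⟨(x ^ m) ^ j, by rw [map_pow, map_pow, hj], ?_⟩
  have h : orderOf ((x ^ m) ^ j) ∣ p ^ e := by
    refine orderOf_dvd_of_pow_eq_one ?_
    rw [← pow_mul, ← pow_mul, mul_comm j, ← mul_assoc, mul_comm m, ← he, pow_mul,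
      pow_orderOf_eq_one, one_pow]
  obtain ⟨i, -, hi⟩ := (Nat.dvd_prime_pow hp).1 h
  exact ⟨i, hi⟩

theorem exists_prime_pow_orderOf [Finite G] {x : G} {p m : ℕ} (hp : p.Prime)
    (hx : x ^ p ^ m = 1) : ∃ a : ℕ, orderOf x = p ^ a := by
  obtain ⟨i, -, hi⟩ := (Nat.dvd_prime_pow hp).1 (orderOf_dvd_of_pow_eq_one hx)
  exact ⟨i, hi⟩

theorem subgroup_eq_top_of_prime_pow [Finite G] (H : Subgroup G)
    (h : ∀ (p : ℕ) (x : G), p.Prime → (∃ a, orderOf x = p ^ a) → x ∈ H) : H = ⊤ := by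
  refine Subgroup.eq_top_of_card_eq H (Nat.dvd_antisymm (Subgroup.card_subgroup_dvd_card H) ?_)
  rw [Nat.dvd_iff_prime_pow_dvd_dvd]
  intro p k hp hk
  haveI := Fact.mk hp
  obtain ⟨P⟩ : Nonempty (Sylow p G) := inferInstance
  have hPH : (P : Subgroup G) ≤ H := fun x hx => by
    obtain ⟨i, hi⟩ := P.isPGroup' ⟨x, hx⟩
    exact h p x hp (exists_prime_pow_orderOf hp (by simpa using congrArg Subtype.val hi))
  refine (dvd_trans ?_ (Subgroup.card_dvd_of_le hPH))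
  rw [Sylow.card_eq_multiplicity]
  exact pow_dvd_pow p ((hp.pow_dvd_iff_le_factorization Nat.card_pos.ne').1 hk)

section Setup

variable {N : Subgroup G} {q : ℕ}

theorem zpow_eq_iff (hq : q.Prime) (hexp : ∀ n ∈ N, n ^ q = 1) {x : G} (hx : x ∈ N) (hx1 : x ≠ 1)
    (i j : ℤ) : x ^ i = x ^ j ↔ (i : ZMod q) = j := by
  have hord : orderOf x = q :=
    haveI := Fact.mk hq
    orderOf_eq_prime (hexp x hx) hx1
  rw [zpow_eq_zpow_iff_modEq, hord, ← ZMod.intCast_eq_intCast_iff]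

theorem zpow_eq_self_iff (hq : q.Prime) (hexp : ∀ n ∈ N, n ^ q = 1) {x : G} (hx : x ∈ N)
    (hx1 : x ≠ 1) (i : ℤ) : x ^ i = x ↔ (i : ZMod q) = 1 := by
  have := zpow_eq_iff hq hexp hx hx1 i 1
  rwa [zpow_one, Int.cast_one] at this

theorem mem_zpowers_of_zpow (hq : q.Prime) (hexp : ∀ n ∈ N, n ^ q = 1) {x y : G} (hx : x ∈ N)
    {i : ℤ} (hi : (i : ZMod q) ≠ 0) (hy : x ^ i ∈ Subgroup.zpowers y) : x ∈ Subgroup.zpowers y := by
  haveI := Fact.mk hq
  obtain ⟨j, hj⟩ : ∃ j : ℤ, ((i * j : ℤ) : ZMod q) = 1 :=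
    ⟨((i : ZMod q)⁻¹.val : ℤ), by push_cast; rw [ZMod.natCast_zmod_val, mul_inv_cancel₀ hi]⟩
  rcases eq_or_ne x 1 with rfl | hx1
  · exact Subgroup.one_mem _
  rw [← (zpow_eq_self_iff hq hexp hx hx1 (i * j)).2 hj, zpow_mul]
  exact Subgroup.zpow_mem _ hy j

/-- An endomorphism preserving all cyclic subgroups is a power map. -/
theorem exists_uniform (hq : q.Prime) (hexp : ∀ n ∈ N, n ^ q = 1) [IsMulCommutative N] (D : Subgroup G)
    (hD : D ≤ N) (f : G →* G) (h : ∀ w ∈ D, f w ∈ Subgroup.zpowers w) :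
    ∃ k : ℤ, ∀ w ∈ D, f w = w ^ k := by
  by_cases hbot : D = ⊥
  · refine ⟨1, fun w hw => ?_⟩
    rw [hbot, Subgroup.mem_bot] at hw
    rw [hw, map_one, one_zpow]
  obtain ⟨w0, hw0, hw01⟩ := (D.bot_or_exists_ne_one).resolve_left hbot
  obtain ⟨k, hk⟩ := Subgroup.mem_zpowers_iff.1 (h w0 hw0)
  refine ⟨k, fun w hw => ?_⟩
  by_cases hmem : w ∈ Subgroup.zpowers w0
  · obtain ⟨i, rfl⟩ := Subgroup.mem_zpowers_iff.1 hmem
    rw [map_zpow, ← hk, zpow_comm]
  obtain ⟨l, hl⟩ := Subgroup.mem_zpowers_iff.1 (h w hw)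
  obtain ⟨j, hj⟩ := Subgroup.mem_zpowers_iff.1 (h (w0 * w) (D.mul_mem hw0 hw))
  have hc : Commute w0 w :=
    congrArg Subtype.val (mul_comm' (⟨w0, hD hw0⟩ : N) ⟨w, hD hw⟩)
  rw [map_mul, ← hk, ← hl, hc.mul_zpow] at hj
  have h1 : w ^ (l - j) = w0 ^ (j - k) := by
    calc w ^ (l - j) = (w0 ^ k)⁻¹ * (w0 ^ k * w ^ l) * (w ^ j)⁻¹ := by group
      _ = (w0 ^ k)⁻¹ * (w0 ^ j * w ^ j) * (w ^ j)⁻¹ := by rw [hj]
      _ = w0 ^ (j - k) := by group
  have h2 : ((l - j : ℤ) : ZMod q) = 0 := by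
    by_contra hne
    exact hmem (mem_zpowers_of_zpow hq hexp (hD hw) hne (h1 ▸ Subgroup.zpow_mem _ (Subgroup.mem_zpowers w0) _))
  have hw1 : w ≠ 1 := fun e => hmem (e ▸ Subgroup.one_mem _)
  have h3 : w ^ (l - j) = w ^ (0 : ℤ) :=
    (zpow_eq_iff hq hexp (hD hw) hw1 _ _).2 (by rw [h2, Int.cast_zero])
  rw [h3, zpow_zero, ← zpow_zero w0] at h1
  have h4 := (zpow_eq_iff hq hexp (hD hw0) hw01 _ _).1 h1
  rw [← hl]
  refine (zpow_eq_iff hq hexp (hD hw) hw1 _ _).2 ?_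
  push_cast at h2 h4 ⊢
  linear_combination h2 - h4

theorem conj_conj' (a b n : G) : a * (b * n * b⁻¹) * a⁻¹ = a * b * n * (a * b)⁻¹ := by group

/-- The basic consequence of the hypothesis. -/
theorem conj_mem_zpowers [Finite G] (hP : Pair G) (hN : N.Normal) [IsMulCommutative N] (hq : q.Prime)
    (hexp : ∀ n ∈ N, n ^ q = 1) {p : ℕ} (hp : p.Prime) (hpq : p ≠ q) {y : G}
    (hy : ∃ a, orderOf y = p ^ a) {n : G} (hn : n ∈ N) :
    y * (y * n * y⁻¹ * n⁻¹) * y⁻¹ ∈ Subgroup.zpowers (y * n * y⁻¹ * n⁻¹) := by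
  haveI := Fact.mk hq
  set w := y * n * y⁻¹ * n⁻¹ with hw
  by_contra hcon
  have hwN : w ∈ N := N.mul_mem (hN.conj_mem n hn y) (N.inv_mem hn)
  set H := Subgroup.zpowers y ⊔ Subgroup.zpowers (n * y * n⁻¹) with hH
  have hwH : w ∈ H := by
    rw [show w = y * (n * y * n⁻¹)⁻¹ by rw [hw]; group]
    exact H.mul_mem (Subgroup.mem_sup_left (Subgroup.mem_zpowers y))
      (H.inv_mem (Subgroup.mem_sup_right (Subgroup.mem_zpowers _)))
  have hyH : y ∈ H := Subgroup.mem_sup_left (Subgroup.mem_zpowers y)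
  set W2 := Subgroup.zpowers w ⊔ Subgroup.zpowers (y * w * y⁻¹) with hW2
  have hle : W2 ≤ H := sup_le (Subgroup.zpowers_le.2 hwH)
    (Subgroup.zpowers_le.2 (H.mul_mem (H.mul_mem hyH hwH) (H.inv_mem hyH)))
  have hleN : W2 ≤ N := sup_le (Subgroup.zpowers_le.2 hwN)
    (Subgroup.zpowers_le.2 (hN.conj_mem w hwN y))
  have hlt : Subgroup.zpowers w < W2 := lt_of_le_of_ne le_sup_left fun e =>
    hcon (e ▸ Subgroup.mem_sup_right (Subgroup.mem_zpowers _))
  have hw1 : w ≠ 1 := fun e => hcon (by rw [e, mul_one, mul_inv_cancel]; exact Subgroup.one_mem _)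
  have hordw : Nat.card (Subgroup.zpowers w) = q := by
    rw [Nat.card_zpowers]; exact orderOf_eq_prime (hexp w hwN) hw1
  have hW2p : IsPGroup q W2 := fun u => ⟨1, Subtype.ext (by simpa using hexp u (hleN u.2))⟩
  obtain ⟨i, hi⟩ := IsPGroup.iff_card.1 hW2p
  have hcard : q < Nat.card W2 := by
    rw [← hordw]
    exact Set.ncard_lt_ncard (SetLike.coe_ssubset_coe.2 hlt) (Set.toFinite _)
  have hi2 : 2 ≤ i := by
    by_contra hc
    rw [hi] at hcard
    exact absurd hcard (not_lt.2 ((Nat.pow_le_pow_right hq.pos (by omega : i ≤ 1)).trans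
      (pow_one q).le))
  have hnord : ∃ b, orderOf n = q ^ b := exists_prime_pow_orderOf (m := 1) hq (by rw [pow_one]; exact hexp n hn)
  exact hP p q hp hq hpq y n hy hnord
    ((pow_dvd_pow q hi2).trans (hi ▸ Subgroup.card_dvd_of_le hle))

/-- `m` acts on `N` as a power map. -/
def IsScal (N : Subgroup G) (m : G) : Prop := ∃ k : ℤ, ∀ n ∈ N, m * n * m⁻¹ = n ^ k

end Setup

open Subgroup in
/-- An elementary abelian minimal normal subgroup with a faithful supersolvable complement has prime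
order, in a group with the pair property. -/
theorem prime_card [Finite G] (hP : Pair G) {N M : Subgroup G} [hN : N.Normal] [IsMulCommutative N]
    {q : ℕ} (hq : q.Prime) (hexp : ∀ n ∈ N, n ^ q = 1) (hN1 : N ≠ ⊥)
    (hmin : ∀ L : Subgroup G, L.Normal → L ≤ N → L = ⊥ ∨ L = N) (htop : M ⊔ N = ⊤)
    (hfaith : ∀ m ∈ M, (∀ n ∈ N, m * n = n * m) → m = 1) (hM : Cfsg.IsSupersolvable M) :
    (Nat.card N).Prime := by
  classical
  haveI := Fact.mk hq
  by_contra hnp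
  have hcomm : ∀ a ∈ N, ∀ b ∈ N, a * b = b * a := fun a ha b hb =>
    congrArg Subtype.val (mul_comm' (⟨a, ha⟩ : N) ⟨b, hb⟩)
  -- a subgroup of `N` invariant under `M` is trivial or all of `N`
  have hirr : ∀ L : Subgroup G, L ≤ N → (∀ m ∈ M, ∀ l ∈ L, m * l * m⁻¹ ∈ L) → L = ⊥ ∨ L = N := by
    intro L hL hinv
    refine hmin L ⟨fun l hl g => ?_⟩ hL
    obtain ⟨a, ha, b, hb, rfl⟩ := mem_sup_of_normal_right.1
      (show g ∈ M ⊔ N from htop ▸ mem_top g)
    rw [← conj_conj', hcomm b hb l (hL hl), mul_inv_cancel_right]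
    exact hinv a ha l hl
  have hfaith' : ∀ m ∈ M, (∀ n ∈ N, m * n * m⁻¹ = n) → m = 1 := fun m hm h =>
    hfaith m hm fun n hn => mul_inv_eq_iff_eq_mul.1 (h n hn)
  -- the scalar subgroup
  have hScal_pow : ∀ m : G, ∀ k : ℤ, (∀ n ∈ N, m * n * m⁻¹ = n ^ k) →
      ∀ j : ℕ, ∀ n ∈ N, m ^ j * n * (m ^ j)⁻¹ = n ^ (k ^ j) := by
    intro m k h j
    induction j with
    | zero => intro n hn; simp
    | succ j ih =>
      intro n hn
      rw [pow_succ', ← conj_conj', ih n hn, h _ (N.zpow_mem hn _), ← zpow_mul, ← pow_succ]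
  let S : Subgroup M :=
    { carrier := {m | IsScal N (m : G)}
      one_mem' := ⟨1, fun n _ => by simp⟩
      mul_mem' := by
        rintro a b ⟨k, hk⟩ ⟨l, hl⟩
        refine ⟨l * k, fun n hn => ?_⟩
        rw [Subgroup.coe_mul, ← conj_conj', hl n hn, hk _ (N.zpow_mem hn _), ← zpow_mul]
      inv_mem' := by
        rintro a ⟨k, hk⟩
        refine ⟨k ^ (orderOf (a : G) - 1), fun n hn => ?_⟩
        rw [← hScal_pow (a : G) k hk _ n hn, Subgroup.coe_inv,
          inv_eq_of_mul_eq_one_right (show (a : G) * (a : G) ^ (orderOf (a : G) - 1) = 1 by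
            rw [← pow_succ', Nat.sub_add_cancel (orderOf_pos _), pow_orderOf_eq_one])] }
  have hcent : ∀ s : M, s ∈ S → ∀ g : M, s * g = g * s := by
    rintro s ⟨k, hk⟩ g
    have h : (g⁻¹ * s⁻¹ * g * s : M) = 1 := by
      apply Subtype.ext
      refine hfaith' _ (g⁻¹ * s⁻¹ * g * s : M).2 fun n hn => ?_
      simp only [Subgroup.coe_mul, Subgroup.coe_inv]
      rw [← conj_conj' _ (s : G), hk n hn, ← conj_conj' _ (g : G), ← conj_zpow,
        ← hk _ (hN.conj_mem n hn (g : G))]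
      group
    rw [mul_eq_one_iff_eq_inv] at h
    calc s * g = s * g * (g⁻¹ * s⁻¹ * g)⁻¹⁻¹ * s⁻¹⁻¹ := by rw [inv_inv, inv_inv, mul_assoc, mul_assoc]; rw [h]; group
      _ = g * s := by group
  haveI hSn : S.Normal := ⟨fun s hs g => by rwa [← hcent s hs g, mul_inv_cancel_right]⟩
  have hStop : S ≠ ⊤ := by
    intro hS
    obtain ⟨n0, hn0, hn01⟩ := N.bot_or_exists_ne_one.resolve_left hN1
    rcases hirr (zpowers n0) (zpowers_le.2 hn0) (fun m hm l hl => by
      obtain ⟨k, hk⟩ : IsScal N m := (hS.ge (mem_top (⟨m, hm⟩ : M)) : (⟨m, hm⟩ : M) ∈ S)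
      rw [hk l (zpowers_le.2 hn0 hl)]
      exact Subgroup.zpow_mem _ hl k) with h | h
    · exact hn01 (zpowers_eq_bot.1 h)
    · apply hnp
      rw [← h, Nat.card_zpowers, orderOf_eq_prime (hexp n0 hn0) hn01]
      exact hq
  -- the element `y`
  haveI : Nontrivial (M ⧸ S) := QuotientGroup.nontrivial_iff.2 hStop
  obtain ⟨Kb, hKn, -, hKp⟩ := Solvable.supersolvable_exists_normal_card_prime
    (Solvable.supersolvable_quotient hM S) (top_ne_bot : (⊤ : Subgroup (M ⧸ S)) ≠ ⊥)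
  set r := Nat.card Kb with hr
  haveI := Fact.mk hKp
  obtain ⟨⟨yb, hyb⟩, hyo⟩ := exists_prime_orderOf_dvd_card' r (dvd_refl (Nat.card Kb))
  rw [Subgroup.orderOf_mk] at hyo
  have hyb1 : yb ≠ 1 := fun e => hKp.ne_one (by rw [← hyo, e, orderOf_one])
  have hKz : Kb = zpowers yb := by
    refine (eq_of_le_of_card_ge (zpowers_le.2 hyb) ?_).symm
    rw [Nat.card_zpowers, hyo]
  obtain ⟨y0, rfl⟩ := QuotientGroup.mk'_surjective S yb
  obtain ⟨yM, hyM, a, hya⟩ := exists_prime_pow_lift (QuotientGroup.mk' S) hKp y0 ⟨1, by rw [hyo, pow_one]⟩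
  rw [← hyM] at hyb1 hKz hyb hyo
  have hyS : yM ∉ S := fun h => hyb1 ((QuotientGroup.eq_one_iff yM).2 h)
  have hconjM : ∀ g : M, ∃ m : ℕ, ∃ s ∈ S, g * yM * g⁻¹ = yM ^ m * s := by
    intro g
    have h : QuotientGroup.mk' S (g * yM * g⁻¹) ∈ zpowers (QuotientGroup.mk' S yM) := by
      rw [← hKz, map_mul, map_mul, map_inv]
      exact hKn.conj_mem _ hyb _
    obtain ⟨m, hm⟩ := mem_powers_iff_mem_zpowers.2 h
    have hm' : ((yM ^ m : M) : M ⧸ S) = ((g * yM * g⁻¹ : M) : M ⧸ S) := hm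
    exact ⟨m, (yM ^ m)⁻¹ * (g * yM * g⁻¹), QuotientGroup.eq.1 hm', by group⟩
  set y : G := (yM : G) with hy
  have hyMem : y ∈ M := yM.2
  have hyord : orderOf y = r ^ a := by rw [hy, Subgroup.orderOf_coe, hya]
  have hy1 : y ≠ 1 := fun e => hyS (by
    rw [show yM = 1 from Subtype.ext e]; exact S.one_mem)
  set C := N ⊓ centralizer {y} with hC
  have hCN : C ≤ N := inf_le_left
  have hCfix : ∀ c ∈ C, y * c * y⁻¹ = c := fun c hc =>
    mul_inv_eq_iff_eq_mul.2 (mem_centralizer_singleton_iff.1 hc.2).symm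
  have hmemC : ∀ c ∈ N, y * c * y⁻¹ = c → c ∈ C := fun c hc h =>
    ⟨hc, mem_centralizer_singleton_iff.2 (mul_inv_eq_iff_eq_mul.1 h).symm⟩
  have hCneN : C ≠ N := fun e => hy1 (hfaith' y hyMem fun n hn => hCfix n (e ▸ hn))
  -- `r ≠ q`
  have hrq : r ≠ q := by
    intro hrq
    have hC1 : C ≠ ⊥ := by
      intro hC0
      let φ : zpowers y →* MulAut N := (MulAut.conjNormal (H := N)).comp (zpowers y).subtype
      letI : MulAction (zpowers y) N := MulAction.compHom N φ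
      have hyp : IsPGroup q (zpowers y) :=
        IsPGroup.of_card (n := a) (by rw [Nat.card_zpowers, hyord, hrq])
      have hdvd : q ∣ Nat.card N := by
        obtain ⟨n0, hn0, hn01⟩ := N.bot_or_exists_ne_one.resolve_left hN1
        exact orderOf_eq_prime (hexp n0 hn0) hn01 ▸ orderOf_dvd_natCard N hn0
      obtain ⟨b, hb, hb1⟩ := hyp.exists_fixed_point_of_prime_dvd_card_of_fixed_point N hdvd
        (a := (1 : N)) (fun z => map_one (φ z))
      refine hb1 (Subtype.ext ?_)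
      have h := congrArg Subtype.val (hb ⟨y, mem_zpowers y⟩)
      have : (b : G) ∈ C := hmemC b b.2 h
      rw [hC0, mem_bot] at this
      exact this.symm
    rcases hirr C hCN (fun g hg c hc => by
      obtain ⟨m, s, ⟨k, hk⟩, hgs⟩ := hconjM (⟨g, hg⟩ : M)⁻¹
      have hys : yM ^ m * s = s * yM ^ m := (hcent s ⟨k, hk⟩ _).symm
      have hsord : s ^ q ^ a = 1 := by
        have h1 : ((⟨g, hg⟩ : M)⁻¹ * yM * (⟨g, hg⟩ : M)⁻¹⁻¹) ^ q ^ a = 1 := by
          rw [conj_pow, ← hrq, ← hya, pow_orderOf_eq_one]; group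
        have hys' : Commute (yM ^ m) s := hys
        rwa [hgs, hys'.mul_pow, ← pow_mul, mul_comm m, pow_mul, ← hrq, ← hya,
          pow_orderOf_eq_one, one_pow, one_mul, hya, hrq] at h1
      have hs1 : s = 1 := by
        apply Subtype.ext
        refine hfaith' _ s.2 fun n hn => ?_
        rcases eq_or_ne n 1 with rfl | hn1
        · simp
        have h1 := hScal_pow (s : G) k hk (q ^ a) n hn
        rw [← Subgroup.coe_pow, hsord, Subgroup.coe_one, one_mul, inv_one, mul_one, eq_comm,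
          zpow_eq_self_iff hq hexp hn hn1, Int.cast_pow, ZMod.pow_card_pow] at h1
        rw [hk n hn]
        exact (zpow_eq_self_iff hq hexp hn hn1 k).2 h1
      rw [hs1, mul_one] at hgs
      have hgs' : g⁻¹ * y * g = y ^ m := by simpa using congrArg Subtype.val hgs
      refine hmemC _ (hN.conj_mem c (hCN hc) g) ?_
      have h2 : Commute (y ^ m) c :=
        Commute.pow_left (mem_centralizer_singleton_iff.1 hc.2).symm m
      calc y * (g * c * g⁻¹) * y⁻¹ = g * ((g⁻¹ * y * g) * c * (g⁻¹ * y * g)⁻¹) * g⁻¹ := by group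
        _ = g * c * g⁻¹ := by rw [hgs', h2.eq, mul_inv_cancel_right]) with h | h
    · exact hC1 h
    · exact hCneN h
  -- the decomposition of `N`
  let φ : N →* G :=
    { toFun := fun n => y * n * y⁻¹ * (n : G)⁻¹
      map_one' := by simp
      map_mul' := fun u v => by
        have h1 : y * (v : G) * y⁻¹ ∈ N := hN.conj_mem _ v.2 y
        calc y * ((u * v : N) : G) * y⁻¹ * ((u * v : N) : G)⁻¹
            = (y * u * y⁻¹) * ((y * v * y⁻¹ * (v : G)⁻¹) * (u : G)⁻¹) := by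
              rw [Subgroup.coe_mul]; group
          _ = (y * u * y⁻¹) * ((u : G)⁻¹ * (y * v * y⁻¹ * (v : G)⁻¹)) := by
              rw [hcomm _ (N.mul_mem h1 (N.inv_mem v.2)) _ (N.inv_mem u.2)]
          _ = _ := by group }
  set W := φ.range with hW
  have hWN : W ≤ N := by
    rintro _ ⟨n, rfl⟩
    exact N.mul_mem (hN.conj_mem _ n.2 y) (N.inv_mem n.2)
  have hφker : ∀ n : N, n ∈ φ.ker ↔ (n : G) ∈ C := by
    intro n
    rw [MonoidHom.mem_ker]
    show y * (n : G) * y⁻¹ * (n : G)⁻¹ = 1 ↔ _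
    rw [mul_inv_eq_one]
    exact ⟨hmemC _ n.2, hCfix _⟩
  obtain ⟨d, hd⟩ := exists_uniform hq hexp W hWN (MulAut.conj y).toMonoidHom (by
    rintro _ ⟨n, rfl⟩
    exact conj_mem_zpowers hP hN hq hexp hKp hrq ⟨a, hyord⟩ n.2)
  replace hd : ∀ w ∈ W, y * w * y⁻¹ = w ^ d := fun w hw => hd w hw
  have hWfix : ∀ w ∈ W, y * w * y⁻¹ = w → w = 1 := by
    intro w hw hfix
    obtain ⟨n, rfl⟩ := hw
    have h1 : ∀ j : ℕ, y ^ j * (n : G) * (y ^ j)⁻¹ = (n : G) * φ n ^ j := by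
      intro j
      induction j with
      | zero => simp
      | succ j ih =>
        have h3 : y * (n : G) * y⁻¹ = (n : G) * φ n := by
          show _ = (n : G) * (y * n * y⁻¹ * (n : G)⁻¹)
          rw [hcomm _ n.2 _ (N.mul_mem (hN.conj_mem _ n.2 y) (N.inv_mem n.2))]
          group
        rw [pow_succ' y, ← conj_conj', ih, pow_succ' (φ n),
          show y * ((n : G) * φ n ^ j) * y⁻¹ = (y * n * y⁻¹) * (y * φ n * y⁻¹) ^ j by
            rw [conj_pow]; group, hfix, h3, mul_assoc]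
    have h4 := h1 (orderOf y)
    rw [pow_orderOf_eq_one, one_mul, inv_one, mul_one, left_eq_mul] at h4
    have h5 : φ n ^ q = 1 := hexp _ (hWN ⟨n, rfl⟩)
    refine orderOf_eq_one_iff.1 (Nat.eq_one_of_dvd_coprimes ?_ (orderOf_dvd_of_pow_eq_one h4)
      (orderOf_dvd_of_pow_eq_one h5))
    rw [hyord]
    exact ((Nat.coprime_primes hKp hq).2 hrq).pow_left a
  have hCW : ∀ x, x ∈ C → x ∈ W → x = 1 := fun x hx hx' => hWfix x hx' (hCfix x hx)
  have hdec : ∀ n ∈ N, ∃ c ∈ C, ∃ w ∈ W, n = c * w := by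
    intro n hn
    let f : φ.ker × W → N := fun x => ⟨((x.1 : N) : G) * x.2, N.mul_mem (x.1 : N).2 (hWN x.2.2)⟩
    have hinj : Function.Injective f := by
      rintro ⟨⟨u, hu⟩, ⟨w, hw⟩⟩ ⟨⟨u', hu'⟩, ⟨w', hw'⟩⟩ h
      have h' : (u : G) * w = (u' : G) * w' := congrArg Subtype.val h
      have h1 : (u' : G)⁻¹ * u = w' * w⁻¹ := by
        rw [inv_mul_eq_iff_eq_mul, ← mul_assoc, eq_mul_inv_iff_mul_eq]; exact h'
      have h2 : (u' : G)⁻¹ * u = 1 := hCW _
        (C.mul_mem (C.inv_mem ((hφker u').1 hu')) ((hφker u).1 hu))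
        (h1 ▸ W.mul_mem hw' (W.inv_mem hw))
      have h3 := inv_mul_eq_one.1 h2
      rw [h3] at h'
      simp only [Prod.mk.injEq, Subtype.mk.injEq]
      exact ⟨Subtype.ext h3.symm, mul_left_cancel h'⟩
    have hcard : Nat.card (φ.ker × W) = Nat.card N := by
      rw [Nat.card_prod, hW, ← Nat.card_congr (QuotientGroup.quotientKerEquivRange φ).toEquiv,
        mul_comm, ← Subgroup.card_eq_card_quotient_mul_card_subgroup]
    obtain ⟨⟨u, w⟩, huw⟩ := ((Nat.bijective_iff_injective_and_card f).2 ⟨hinj, hcard⟩).2 ⟨n, hn⟩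
    exact ⟨_, (hφker u).1 u.2, _, w.2, (congrArg Subtype.val huw).symm⟩
  have huniq : ∀ c ∈ C, ∀ w ∈ W, ∀ c' ∈ C, ∀ w' ∈ W, c * w = c' * w' → c = c' ∧ w = w' := by
    intro c hc w hw c' hc' w' hw' h
    have h1 : c'⁻¹ * c = w' * w⁻¹ := by
      rw [inv_mul_eq_iff_eq_mul, ← mul_assoc, eq_mul_inv_iff_mul_eq]; exact h
    have h2 : c'⁻¹ * c = 1 :=
      hCW _ (C.mul_mem (C.inv_mem hc') hc) (h1 ▸ W.mul_mem hw' (W.inv_mem hw))
    have h3 := inv_mul_eq_one.1 h2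
    rw [h3] at h
    exact ⟨h3.symm, mul_left_cancel h⟩
  have hW1 : W ≠ ⊥ := by
    intro hW0
    refine hCneN (le_antisymm hCN fun n hn => ?_)
    obtain ⟨c, hc, w, hw, rfl⟩ := hdec n hn
    rw [hW0, mem_bot] at hw
    rwa [hw, mul_one]
  obtain ⟨w0, hw0, hw01⟩ := W.bot_or_exists_ne_one.resolve_left hW1
  have hC1 : C ≠ ⊥ := by
    intro hC0
    refine hyS ⟨d, fun n hn => ?_⟩
    obtain ⟨c, hc, w, hw, rfl⟩ := hdec n hn
    rw [hC0, mem_bot] at hc
    rw [hc, one_mul]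
    exact hd w hw
  obtain ⟨c0, hc0, hc01⟩ := C.bot_or_exists_ne_one.resolve_left hC1
  have hd1 : (d : ZMod q) ≠ 1 := fun h => hw01 (hWfix w0 hw0 (by
    rw [hd w0 hw0]; exact (zpow_eq_self_iff hq hexp (hWN hw0) hw01 d).2 h))
  have hd0 : (d : ZMod q) ≠ 0 := by
    intro h
    have h1 : y * w0 * y⁻¹ = 1 := by
      rw [hd w0 hw0, ← zpow_zero w0]
      exact (zpow_eq_iff hq hexp (hWN hw0) hw01 d 0).2 (by rw [h, Int.cast_zero])
    exact hw01 (conj_eq_one_iff.1 h1)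
  -- action of elements `y ^ m * s`
  have hact : ∀ (m : ℕ) (s : G) (e : ℤ), (∀ n ∈ N, s * n * s⁻¹ = n ^ e) → ∀ c ∈ C, ∀ w ∈ W,
      y ^ m * s * (c * w) * (y ^ m * s)⁻¹ = c ^ e * w ^ (d ^ m * e) := by
    intro m s e hs c hc w hw
    have hpw : ∀ j : ℕ, ∀ v ∈ W, y ^ j * v * (y ^ j)⁻¹ = v ^ (d ^ j) := by
      intro j
      induction j with
      | zero => intro v _; simp
      | succ j ih =>
        intro v hv
        rw [pow_succ', ← conj_conj', ih v hv, hd _ (W.zpow_mem hv _), ← zpow_mul, ← pow_succ]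
    rw [← conj_conj', hs _ (N.mul_mem (hCN hc) (hWN hw)),
      (show Commute c w from hcomm c (hCN hc) w (hWN hw)).mul_zpow,
      show y ^ m * (c ^ e * w ^ e) * (y ^ m)⁻¹ =
        (y ^ m * c ^ e * (y ^ m)⁻¹) * (y ^ m * w ^ e * (y ^ m)⁻¹) by group,
      hpw m _ (W.zpow_mem hw e), ← zpow_mul, mul_comm e]
    congr 1
    rw [(Commute.pow_left (mem_centralizer_singleton_iff.1 (C.zpow_mem hc e).2).symm m).eq,
      mul_inv_cancel_right]
  -- each element of `M` fixes or exchanges `C` and `W`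
  have hswap : ∀ g ∈ M, (∀ c ∈ C, g * c * g⁻¹ ∈ C) ∨
      ((∀ c ∈ C, g * c * g⁻¹ ∈ W) ∧ (∀ w ∈ W, g * w * g⁻¹ ∈ C) ∧
        (∀ c ∈ C, ∀ w ∈ W, g * y * g⁻¹ * (c * w) * (g * y * g⁻¹)⁻¹ = c ^ d * w) ∧
        g * y * g⁻¹ * y = y * (g * y * g⁻¹)) := by
    intro g hg
    obtain ⟨m, s, hsS, hgs⟩ := hconjM ⟨g, hg⟩
    obtain ⟨e, he⟩ := hsS
    have hgs' : g * y * g⁻¹ = y ^ m * (s : G) := by simpa using congrArg Subtype.val hgs
    have hact' := hact m (s : G) e he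
    rw [← hgs'] at hact'
    have hfixC : ∀ c ∈ C, ∀ c1 ∈ C, ∀ w1 ∈ W, g * c * g⁻¹ = c1 * w1 →
        c1 ^ e = c1 ∧ w1 ^ (d ^ m * e) = w1 := by
      intro c hc c1 hc1 w1 hw1 h
      refine huniq _ (C.zpow_mem hc1 e) _ (W.zpow_mem hw1 _) _ hc1 _ hw1 ?_
      rw [← hact' c1 hc1 w1 hw1, ← h]
      calc g * y * g⁻¹ * (g * c * g⁻¹) * (g * y * g⁻¹)⁻¹ = g * (y * c * y⁻¹) * g⁻¹ := by group
        _ = _ := by rw [hCfix c hc]
    by_cases he1 : (e : ZMod q) = 1
    · left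
      intro c hc
      obtain ⟨c1, hc1, w1, hw1, h⟩ := hdec _ (hN.conj_mem c (hCN hc) g)
      obtain ⟨-, h2⟩ := hfixC c hc c1 hc1 w1 hw1 h
      rcases eq_or_ne w1 1 with rfl | hw11
      · rw [h, mul_one]; exact hc1
      exfalso
      have hde := (zpow_eq_self_iff hq hexp (hWN hw1) hw11 _).1 h2
      have : g * y * g⁻¹ = 1 := by
        refine hfaith' _ (M.mul_mem (M.mul_mem hg hyMem) (M.inv_mem hg)) fun n hn => ?_
        obtain ⟨u, hu, v, hv, rfl⟩ := hdec n hn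
        rw [hact' u hu v hv]
        congr 1
        · rcases eq_or_ne u 1 with rfl | hu1
          · simp
          · exact (zpow_eq_self_iff hq hexp (hCN hu) hu1 e).2 he1
        · rcases eq_or_ne v 1 with rfl | hv1
          · simp
          · exact (zpow_eq_self_iff hq hexp (hWN hv) hv1 _).2 hde
      exact hy1 (conj_eq_one_iff.1 this)
    · have hgC : ∀ c ∈ C, g * c * g⁻¹ ∈ W := by
        intro c hc
        obtain ⟨c1, hc1, w1, hw1, h⟩ := hdec _ (hN.conj_mem c (hCN hc) g)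
        obtain ⟨h1, -⟩ := hfixC c hc c1 hc1 w1 hw1 h
        rcases eq_or_ne c1 1 with rfl | hc11
        · rw [h, one_mul]; exact hw1
        · exact absurd ((zpow_eq_self_iff hq hexp (hCN hc1) hc11 e).1 h1) he1
      have hde : ((d ^ m * e : ℤ) : ZMod q) = 1 := by
        have hgc1 : g * c0 * g⁻¹ ≠ 1 := fun h => hc01 (conj_eq_one_iff.1 h)
        obtain ⟨-, h2⟩ := hfixC c0 hc0 1 C.one_mem _ (hgC c0 hc0) (one_mul _).symm
        exact (zpow_eq_self_iff hq hexp (hN.conj_mem c0 (hCN hc0) g) hgc1 _).1 h2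
      have hgW : ∀ w ∈ W, g * w * g⁻¹ ∈ C ∧ (g * w * g⁻¹) ^ e = (g * w * g⁻¹) ^ d := by
        intro w hw
        obtain ⟨c1, hc1, w1, hw1, h⟩ := hdec _ (hN.conj_mem w (hWN hw) g)
        have h3 : c1 ^ e * w1 ^ (d ^ m * e) = c1 ^ d * w1 ^ d := by
          rw [← hact' c1 hc1 w1 hw1,
            ← (show Commute c1 w1 from hcomm c1 (hCN hc1) w1 (hWN hw1)).mul_zpow, ← h]
          calc g * y * g⁻¹ * (g * w * g⁻¹) * (g * y * g⁻¹)⁻¹ = g * (y * w * y⁻¹) * g⁻¹ := by group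
            _ = _ := by rw [hd w hw, conj_zpow]
        obtain ⟨h4, h5⟩ := huniq _ (C.zpow_mem hc1 e) _ (W.zpow_mem hw1 _) _ (C.zpow_mem hc1 d) _
          (W.zpow_mem hw1 d) h3
        rcases eq_or_ne w1 1 with rfl | hw11
        · rw [h, mul_one]; exact ⟨hc1, h4⟩
        · exact absurd (((zpow_eq_iff hq hexp (hWN hw1) hw11 _ _).1 h5).symm.trans hde) hd1
      have hed : (e : ZMod q) = d := by
        have hgw1 : g * w0 * g⁻¹ ≠ 1 := fun h => hw01 (conj_eq_one_iff.1 h)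
        exact (zpow_eq_iff hq hexp (hN.conj_mem w0 (hWN hw0) g) hgw1 _ _).1 (hgW w0 hw0).2
      refine Or.inr ⟨hgC, fun w hw => (hgW w hw).1, fun c hc w hw => ?_, ?_⟩
      · rw [hact' c hc w hw]
        congr 1
        · rcases eq_or_ne c 1 with rfl | hc1
          · simp
          · exact (zpow_eq_iff hq hexp (hCN hc) hc1 _ _).2 hed
        · rcases eq_or_ne w 1 with rfl | hw1
          · simp
          · exact (zpow_eq_self_iff hq hexp (hWN hw) hw1 _).2 hde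
      · rw [hgs']
        have := congrArg Subtype.val (hcent s ⟨e, he⟩ yM)
        simp only [Subgroup.coe_mul] at this
        calc y ^ m * (s : G) * y = y ^ m * ((s : G) * y) := mul_assoc _ _ _
          _ = y ^ m * (y * s) := by rw [this]
          _ = y * (y ^ m * s) := by rw [← mul_assoc, ← pow_succ, pow_succ', mul_assoc]
  -- some element of prime power order exchanges `C` and `W`
  obtain ⟨t, g, hg, ht, hgo, hgC⟩ : ∃ t g, g ∈ M ∧ t.Prime ∧ (∃ b, orderOf g = t ^ b) ∧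
      ¬ ∀ c ∈ C, g * c * g⁻¹ ∈ C := by
    by_contra hcon
    push Not at hcon
    let St : Submonoid M :=
      { carrier := {g | ∀ c ∈ C, (g : G) * c * (g : G)⁻¹ ∈ C}
        one_mem' := fun c hc => by simpa using hc
        mul_mem' := fun {u v} hu hv c hc => by
          rw [Subgroup.coe_mul, ← conj_conj']; exact hu _ (hv c hc) }
    let St' : Subgroup M :=
      { St with
        inv_mem' := fun {u} hu => by
          have hp := St.pow_mem hu (orderOf u - 1)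
          have he : u⁻¹ = u ^ (orderOf u - 1) := inv_eq_of_mul_eq_one_right (by
            rw [← pow_succ', Nat.sub_add_cancel (orderOf_pos _), pow_orderOf_eq_one])
          rw [he]
          exact hp }
    have htop' : St' = ⊤ := subgroup_eq_top_of_prime_pow St' fun p x hp hx c hc =>
      hcon p x x.2 hp (by simpa [Subgroup.orderOf_coe] using hx) c hc
    rcases hirr C hCN fun g hg c hc =>
      (htop'.ge (mem_top (⟨g, hg⟩ : M)) : (⟨g, hg⟩ : M) ∈ St') c hc with h | h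
    · exact hC1 h
    · exact hCneN h
  obtain ⟨hgCW, hgWC, hy', hcy⟩ := (hswap g hg).resolve_left hgC
  set y' := g * y * g⁻¹ with hy'def
  have hyc : ∀ c ∈ C, ∀ w ∈ W, y * (c * w) * y⁻¹ = c * w ^ d := by
    intro c hc w hw
    rw [show y * (c * w) * y⁻¹ = (y * c * y⁻¹) * (y * w * y⁻¹) by group, hCfix c hc, hd w hw]
  -- `d = -1`
  have hdd : (d : ZMod q) * d = 1 := by
    set z := y' * y * y with hz
    have hzo : ∃ b, orderOf z = r ^ b := by
      refine exists_prime_pow_orderOf (m := a) hKp ?_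
      have hc1 : Commute y' y := hcy
      rw [hz, ((hc1.mul_left (Commute.refl y))).mul_pow, hc1.mul_pow, hy'def, conj_pow, ← hyord,
        pow_orderOf_eq_one]
      group
    have hzact : ∀ c ∈ C, ∀ w ∈ W, z * (c * w) * z⁻¹ = c ^ d * w ^ (d * d) := by
      intro c hc w hw
      rw [hz, ← conj_conj', hyc c hc w hw, ← conj_conj', hyc c hc _ (W.zpow_mem hw d),
        hy' c hc _ (W.zpow_mem (W.zpow_mem hw d) d), zpow_mul]
    by_contra hne
    have hu : z * (c0 * w0) * z⁻¹ * (c0 * w0)⁻¹ = c0 ^ (d - 1) * w0 ^ (d * d - 1) := by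
      rw [hzact c0 hc0 w0 hw0, zpow_sub_one, zpow_sub_one, mul_inv_rev, ← mul_assoc,
        mul_assoc (c0 ^ d), mul_assoc (c0 ^ d), hcomm (w0 ^ (d * d) * w0⁻¹)
          (N.mul_mem (N.zpow_mem (hWN hw0) _) (N.inv_mem (hWN hw0))) c0⁻¹ (N.inv_mem (hCN hc0))]
      group
    have hmem := conj_mem_zpowers hP hN hq hexp hKp hrq hzo (N.mul_mem (hCN hc0) (hWN hw0))
    rw [hu, hzact _ (C.zpow_mem hc0 _) _ (W.zpow_mem hw0 _)] at hmem
    obtain ⟨k, hk⟩ := mem_zpowers_iff.1 hmem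
    rw [(show Commute (c0 ^ (d - 1)) (w0 ^ (d * d - 1)) from hcomm _
        (N.zpow_mem (hCN hc0) _) _ (N.zpow_mem (hWN hw0) _)).mul_zpow] at hk
    obtain ⟨h1, h2⟩ := huniq _ (C.zpow_mem (C.zpow_mem hc0 _) _) _
      (W.zpow_mem (W.zpow_mem hw0 _) _) _ (C.zpow_mem (C.zpow_mem hc0 _) _) _
      (W.zpow_mem (W.zpow_mem hw0 _) _) hk
    rw [← zpow_mul, ← zpow_mul, zpow_eq_iff hq hexp (hCN hc0) hc01] at h1
    rw [← zpow_mul, ← zpow_mul, zpow_eq_iff hq hexp (hWN hw0) hw01] at h2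
    push_cast at h1 h2
    have hk' : (k : ZMod q) = d := mul_left_cancel₀ (sub_ne_zero.2 hd1) (by linear_combination h1)
    rw [hk'] at h2
    have h3 : ((d : ZMod q) * d - 1) * (d * (d - 1)) = 0 := by linear_combination -h2
    exact mul_ne_zero (sub_ne_zero.2 hne) (mul_ne_zero hd0 (sub_ne_zero.2 hd1)) h3
  have hdm1 : (d : ZMod q) = -1 := by
    have h3 : ((d : ZMod q) - 1) * (d + 1) = 0 := by linear_combination hdd
    exact eq_neg_of_add_eq_zero_left ((mul_eq_zero.1 h3).resolve_left (sub_ne_zero.2 hd1))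
  have hq2 : (2 : ZMod q) ≠ 0 := fun h => hd1 (by rw [hdm1]; linear_combination -h)
  have hneg : ∀ n ∈ N, ∀ i : ℤ, (i : ZMod q) = -1 → n ^ i = n⁻¹ := by
    intro n hn i hi
    rcases eq_or_ne n 1 with rfl | h1
    · simp
    · rw [← zpow_neg_one]
      exact (zpow_eq_iff hq hexp hn h1 _ _).2 (by simpa using hi)
  -- `t ≠ q`
  have hg2C : ∀ c ∈ C, g ^ 2 * c * (g ^ 2)⁻¹ ∈ C := by
    intro c hc
    rw [sq, ← conj_conj']
    exact hgWC _ (hgCW c hc)
  have htq : t ≠ q := by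
    rintro rfl
    obtain ⟨b, hb⟩ := hgo
    have hodd : Nat.Coprime 2 (orderOf g) := by
      rw [hb]
      refine ((Nat.coprime_primes Nat.prime_two hq).2 ?_).pow_right b
      rintro rfl
      exact hq2 (ZMod.natCast_self 2)
    obtain ⟨j, hj⟩ := exists_pow_eq_self_of_coprime hodd
    apply hgC
    rw [← hj]
    clear hj
    induction j with
    | zero => intro c hc; simpa using hc
    | succ j ih =>
      intro c hc
      rw [pow_succ', ← conj_conj']
      exact hg2C _ (ih c hc)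
  have hgfix : ∀ v ∈ C, g * (g * v * g⁻¹) * g⁻¹ = v := by
    intro v hv
    rcases eq_or_ne v 1 with rfl | hv1
    · simp
    set u := g * v * g⁻¹ with hu
    set b := g * u * g⁻¹ with hb
    have hu1 : u ≠ 1 := fun h => hv1 (conj_eq_one_iff.1 h)
    have hmem := conj_mem_zpowers hP hN hq hexp ht htq hgo (hCN hv)
    rw [← hu, show g * (u * v⁻¹) * g⁻¹ = b * u⁻¹ by rw [hb, hu]; group] at hmem
    obtain ⟨k, hk⟩ := mem_zpowers_iff.1 hmem
    rw [(show Commute u v⁻¹ from hcomm u (hWN (hgCW v hv)) v⁻¹ (N.inv_mem (hCN hv))).mul_zpow,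
      hcomm _ (N.zpow_mem (hWN (hgCW v hv)) k) _ (N.zpow_mem (N.inv_mem (hCN hv)) k)] at hk
    obtain ⟨h1, h2⟩ := huniq _ (C.zpow_mem (C.inv_mem hv) k) _ (W.zpow_mem (hgCW v hv) k) _
      (hgWC u (hgCW v hv)) _ (W.inv_mem (hgCW v hv)) hk
    rw [← zpow_neg_one u, zpow_eq_iff hq hexp (hWN (hgCW v hv)) hu1] at h2
    rw [hneg _ (N.inv_mem (hCN hv)) k (by simpa using h2), inv_inv] at h1
    exact h1.symm
  have hgg : g * g = 1 := by
    refine hfaith' _ (M.mul_mem hg hg) fun n hn => ?_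
    obtain ⟨c, hc, w, hw, rfl⟩ := hdec n hn
    have h1 : g * (g * w * g⁻¹) * g⁻¹ = w := by
      have := hgfix _ (hgWC w hw)
      exact mul_left_cancel (mul_right_cancel this)
    rw [show g * g * (c * w) * (g * g)⁻¹ =
      (g * (g * c * g⁻¹) * g⁻¹) * (g * (g * w * g⁻¹) * g⁻¹) by group, hgfix c hc, h1]
  have hginv : g⁻¹ = g := inv_eq_of_mul_eq_one_right hgg
  -- `z = g * y` has order `4`
  set z := g * y with hz
  have hzz : ∀ n ∈ N, z * z * n * (z * z)⁻¹ = n⁻¹ := by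
    intro n hn
    obtain ⟨c, hc, w, hw, rfl⟩ := hdec n hn
    have h : z * z = y' * y := by
      calc z * z = g * y * (g * y) := rfl
        _ = g * y * g * y := (mul_assoc _ _ _).symm
        _ = g * y * g⁻¹ * y := by rw [hginv]
    rw [h, ← conj_conj', hyc c hc w hw, hy' c hc _ (W.zpow_mem hw d),
      hneg c (hCN hc) d hdm1, hneg w (hWN hw) d hdm1, mul_inv_rev,
      hcomm _ (N.inv_mem (hWN hw)) _ (N.inv_mem (hCN hc))]
  have hzM : z ∈ M := M.mul_mem hg hyMem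
  have hzo : ∃ b, orderOf z = 2 ^ b := by
    refine exists_prime_pow_orderOf (m := 2) Nat.prime_two ?_
    have h4 : z * z * (z * z) = 1 := by
      refine hfaith' _ (M.mul_mem (M.mul_mem hzM hzM) (M.mul_mem hzM hzM)) fun n hn => ?_
      rw [← conj_conj', hzz n hn, hzz _ (N.inv_mem hn), inv_inv]
    rw [← h4]; norm_num [pow_succ, mul_assoc]
  have h2q : 2 ≠ q := by
    rintro rfl
    exact hq2 (ZMod.natCast_self 2)
  have hmem := conj_mem_zpowers hP hN hq hexp Nat.prime_two h2q hzo (hCN hc0)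
  set u := g * c0 * g⁻¹ with hu
  have hu1 : u ≠ 1 := fun h => hc01 (conj_eq_one_iff.1 h)
  have huW : u ∈ W := hgCW c0 hc0
  have hzc : z * c0 * z⁻¹ = u := by rw [hz, ← conj_conj', hCfix c0 hc0]
  have hzu : z * (u * c0⁻¹) * z⁻¹ = c0⁻¹ * u⁻¹ := by
    rw [show z * (u * c0⁻¹) * z⁻¹ = (z * u * z⁻¹) * (z * c0 * z⁻¹)⁻¹ by group, hzc, hz,
      ← conj_conj', hd u huW, hneg u (hWN huW) d hdm1,
      show g * u⁻¹ * g⁻¹ = (g * u * g⁻¹)⁻¹ by group, hgfix c0 hc0]
  rw [hzc, hzu] at hmem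
  obtain ⟨k, hk⟩ := mem_zpowers_iff.1 hmem
  rw [(show Commute u c0⁻¹ from hcomm u (hWN huW) c0⁻¹ (N.inv_mem (hCN hc0))).mul_zpow,
    hcomm _ (N.zpow_mem (hWN huW) k) _ (N.zpow_mem (N.inv_mem (hCN hc0)) k)] at hk
  obtain ⟨h1, h2⟩ := huniq _ (C.zpow_mem (C.inv_mem hc0) k) _ (W.zpow_mem huW k) _
    (C.inv_mem hc0) _ (W.inv_mem huW) hk
  rw [← zpow_neg_one c0, ← zpow_mul, zpow_eq_iff hq hexp (hCN hc0) hc01] at h1
  rw [← zpow_neg_one u, zpow_eq_iff hq hexp (hWN huW) hu1] at h2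
  push_cast at h1 h2
  exact hq2 (by linear_combination h1 + h2)

end Cfsg.Agent.ConjPairOrder
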